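import Groth.Agent.PerfC.LpullFlat
import Groth.Agent.PerfC.FlatExact
import Groth.Agent.PerfC.RpushSingle
import Groth.Agent.PerfB.TensInv
import Groth.Agent.Sga5.H855.ConeH
import Groth.Agent.Dcoh.MapDer

/-!
# Integral transforms with invertible kernel of modules placed in one degree (helper985)
-/

set_option autoImplicit false
universe u
open CategoryTheory CategoryTheory.Limits AlgebraicGeometry
attribute [local instance] HasDerivedCategory.standard

namespace K985.Derived

open Groth.Agent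

variable {X W Y : Scheme.{u}}

section lpull

variable (p : W ⟶ X) [Flat p] [DCoh.HasLpull p]

theorem nonempty_lpull_single (n : ℤ) (F : X.Modules) :
    Nonempty ((DCoh.Lpull p).obj ((DerivedCategory.singleFunctor X.Modules n).obj F) ≅
      (DerivedCategory.singleFunctor W.Modules n).obj ((Scheme.Modules.pullback p).obj F)) := by
  have := PerfC.FlatExact.preservesFiniteLimits_pullback p
  exact ⟨(PerfC.LpullFlat.lpullIso p).app _ ≪≫
    ((Scheme.Modules.pullback p).mapDerivedCategorySingleFunctor n).app F⟩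

end lpull

section tens

variable {P : W.Modules} (hP : PicF.IsInvertible P) [DCoh.HasLTensorMod P]

include hP in
theorem nonempty_tens_single (n : ℤ) (N : W.Modules) :
    Nonempty ((DCoh.LTensorMod P).obj ((DerivedCategory.singleFunctor W.Modules n).obj N) ≅
      (DerivedCategory.singleFunctor W.Modules n).obj (CohB1.tensorMod N P)) := by
  have := PerfB.TensInv.preservesFiniteLimits_of_isInvertible hP
  exact ⟨(PerfB.TensExact.LTensorModIso P).app _ ≪≫
    ((DCoh.tensorRightMod P).mapDerivedCategorySingleFunctor n).app N⟩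

end tens

section fm

variable (p : W ⟶ X) [Flat p] (q : W ⟶ Y) {P : W.Modules} (hP : PicF.IsInvertible P)
  [DCoh.HasLpull p] [DCoh.HasLTensorMod P] [DCoh.HasRpush q]

include hP

/-- The transform of a module placed in degree `n`. -/
theorem nonempty_fm (n : ℤ) (F : X.Modules) :
    Nonempty ((DCoh.Lpull p ⋙ DCoh.LTensorMod P ⋙ DCoh.Rpush q).obj
        ((DerivedCategory.singleFunctor X.Modules n).obj F) ≅
      (DCoh.Rpush q).obj ((DerivedCategory.singleFunctor W.Modules n).obj
        (CohB1.tensorMod ((Scheme.Modules.pullback p).obj F) P))) := by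
  obtain ⟨e1⟩ := nonempty_lpull_single p n F
  obtain ⟨e2⟩ := nonempty_tens_single hP n ((Scheme.Modules.pullback p).obj F)
  exact ⟨(DCoh.Rpush q).mapIso ((DCoh.LTensorMod P).mapIso e1 ≪≫ e2)⟩

/-- The transform of a module with only one nonzero direct image. -/
theorem nonempty_fm_single [HasInjectiveResolutions W.Modules] (F : X.Modules) (i0 : ℕ)
    (h : ∀ i, i ≠ i0 → IsZero ((Coh.Rpush q i).obj (CohB1.tensorMod ((Scheme.Modules.pullback p).obj F) P))) :
    Nonempty ((DCoh.Lpull p ⋙ DCoh.LTensorMod P ⋙ DCoh.Rpush q).obj (DCoh.inD X F) ≅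
      (DerivedCategory.singleFunctor Y.Modules (i0 : ℤ)).obj
        ((Coh.Rpush q i0).obj (CohB1.tensorMod ((Scheme.Modules.pullback p).obj F) P))) := by
  obtain ⟨e1⟩ := nonempty_fm p q hP 0 F
  obtain ⟨e2⟩ := Sga5.H855.ConeH.exists_iso_single
    ((DCoh.Rpush q).obj (DCoh.inD W (CohB1.tensorMod ((Scheme.Modules.pullback p).obj F) P))) (i0 : ℤ) (by
      intro i hi
      rcases lt_or_ge i 0 with hn | hn
      · exact PerfC.RpushSingle.isZero_of_neg q _ i hn
      · obtain ⟨m, rfl⟩ := Int.eq_ofNat_of_zero_le hn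
        exact (h m (by rintro rfl; exact hi rfl)).of_iso (PerfC.RpushSingle.iso q m _))
  exact ⟨e1 ≪≫ e2 ≪≫ (DerivedCategory.singleFunctor Y.Modules (i0 : ℤ)).mapIso
    (PerfC.RpushSingle.iso q i0 _)⟩

/-- `H^n` of the transform of a module placed in degree `n` is `q_*`. -/
theorem nonempty_HD_fm [HasInjectiveResolutions W.Modules] (n : ℤ) (G : X.Modules) :
    Nonempty (DCoh.HD ((DCoh.Lpull p ⋙ DCoh.LTensorMod P ⋙ DCoh.Rpush q).obj
        ((DerivedCategory.singleFunctor X.Modules n).obj G)) n ≅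
      (Coh.Rpush q 0).obj (CohB1.tensorMod ((Scheme.Modules.pullback p).obj G) P)) := by
  obtain ⟨e1⟩ := nonempty_fm p q hP n G
  exact ⟨(DerivedCategory.homologyFunctor Y.Modules n).mapIso e1 ≪≫
    PerfC.RpushSingle.isoSingle q _ n n 0 (by simp) ≪≫ PerfC.RpushSingle.iso q 0 _⟩

end fm

/-- A module placed in degree one is the shift of the module placed in degree zero. -/
theorem nonempty_single_one (G : X.Modules) :
    Nonempty ((DerivedCategory.singleFunctor X.Modules 1).obj G ≅
      (shiftFunctor (DCoh.D X) (-1 : ℤ)).obj (DCoh.inD X G)) :=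
  ⟨(((DerivedCategory.singleFunctors X.Modules).shiftIso (-1 : ℤ) 1 0 (by simp)).app G).symm⟩

/-- `H^1(K[-1]) = M` if `K ≅ M[0]`. -/
theorem nonempty_HD_shift (K : DCoh.D X) (M : X.Modules) (e : K ≅ DCoh.inD X M) :
    Nonempty (DCoh.HD ((shiftFunctor (DCoh.D X) (-1 : ℤ)).obj K) 1 ≅ M) := by
  obtain ⟨a⟩ := nonempty_single_one M
  exact ⟨(DerivedCategory.homologyFunctor X.Modules 1).mapIso
    ((shiftFunctor (DCoh.D X) (-1 : ℤ)).mapIso e ≪≫ a.symm) ≪≫
    (DerivedCategory.singleFunctorCompHomologyFunctorIso X.Modules 1).app M⟩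

/-- The inverse transform of `H^1(Φ F)` from `Ψ Φ = i^*[-1]`. -/
theorem nonempty_back {V : Scheme.{u}} (p : W ⟶ X) [Flat p] (q : W ⟶ Y) {P : W.Modules} (hP : PicF.IsInvertible P)
    [DCoh.HasLpull p] [DCoh.HasLTensorMod P] [DCoh.HasRpush q] [HasInjectiveResolutions W.Modules]
    (G : X.Modules) (K : DCoh.D X) (eK : K ≅ (DerivedCategory.singleFunctor X.Modules 1).obj G)
    (i : Y ⟶ V) [Flat i] [DCoh.HasLpull i] (F : V.Modules)
    (e : (DCoh.Lpull p ⋙ DCoh.LTensorMod P ⋙ DCoh.Rpush q).obj K ≅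
      (shiftFunctor (DCoh.D Y) (-1 : ℤ)).obj ((DCoh.Lpull i).obj (DCoh.inD V F))) :
    Nonempty ((Coh.Rpush q 0).obj (CohB1.tensorMod ((Scheme.Modules.pullback p).obj G) P) ≅
      (Scheme.Modules.pullback i).obj F) := by
  obtain ⟨a⟩ := nonempty_HD_fm p q hP 1 G
  obtain ⟨b⟩ := nonempty_lpull_single i 0 F
  obtain ⟨c⟩ := nonempty_HD_shift ((DCoh.Lpull i).obj (DCoh.inD V F)) _ b
  exact ⟨a.symm ≪≫ (DerivedCategory.homologyFunctor Y.Modules 1).mapIso
    ((DCoh.Lpull p ⋙ DCoh.LTensorMod P ⋙ DCoh.Rpush q).mapIso eK.symm ≪≫ e) ≪≫ c⟩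

end K985.Derived
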