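import Groth.Agent.VBCurve.K985.DegPush
import Groth.Agent.VBCurve.K707.MaxSlope
import Groth.Agent.PerfC.FlatExact
import Groth.Agent.PerfB.TensInv

/-!
# Semistability of the transform from the inverse transform (helper985)

`Q` on `Y × X` (two curves of genus one) of the type of a Poincaré module. If `G` is locally free of positive degree
on `Y`, and `q_*(p^*G ⊗ Q) ≅ B` with `B` semistable of rank `deg G` and degree `- rk G`, then `G` is semistable.
-/

set_option autoImplicit false
universe u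
open CategoryTheory CategoryTheory.Limits AlgebraicGeometry

namespace K985.SSMain

open Groth.Agent Groth.Agent.VarietyA.DegRank K707.Base K707.Deg K707.Slope K707.Semi K705.Gen1 K707.TensL
open K985.Fib K985.Push

section mono

variable {X Y : Scheme.{u}}

/-- `M ↦ q_*(p^*M ⊗ P)` preserves monomorphisms if `p` is flat and `P` is invertible. -/
theorem exists_mono {W : Scheme.{u}} (p : W ⟶ X) (q : W ⟶ Y) [Flat p] [HasInjectiveResolutions W.Modules]
    {P : W.Modules} (hP : PicF.IsInvertible P) {M N : X.Modules} (j : M ⟶ N) [Mono j] :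
    ∃ φ : (Coh.Rpush q 0).obj (CohB1.tensorMod ((Scheme.Modules.pullback p).obj M) P) ⟶
      (Coh.Rpush q 0).obj (CohB1.tensorMod ((Scheme.Modules.pullback p).obj N) P), Mono φ := by
  have h1 := PerfC.FlatExact.preservesFiniteLimits_pullback p
  have h2 := PerfB.TensInv.preservesFiniteLimits_of_isInvertible hP
  let e : Coh.Rpush q 0 ≅ Scheme.Modules.pushforward q := (Scheme.Modules.pushforward q).rightDerivedZeroIsoSelf
  have h4 : Mono ((Scheme.Modules.pullback p).map j) := inferInstance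
  have h5 : Mono ((DCoh.tensorRightMod P).map ((Scheme.Modules.pullback p).map j)) := inferInstance
  have h6 : Mono ((Scheme.Modules.pushforward q).map
    ((DCoh.tensorRightMod P).map ((Scheme.Modules.pullback p).map j))) := inferInstance
  have h7 : (Coh.Rpush q 0).map ((DCoh.tensorRightMod P).map ((Scheme.Modules.pullback p).map j)) =
      e.hom.app _ ≫ (Scheme.Modules.pushforward q).map
        ((DCoh.tensorRightMod P).map ((Scheme.Modules.pullback p).map j)) ≫ e.inv.app _ := by
    rw [← Category.assoc, ← e.hom.naturality, Category.assoc, Iso.hom_inv_id_app, Category.comp_id]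
  have h8 : Mono ((Coh.Rpush q 0).map ((DCoh.tensorRightMod P).map ((Scheme.Modules.pullback p).map j))) := by
    rw [h7]
    infer_instance
  exact ⟨_, h8⟩

end mono

section Main

variable {k : Type u} [Field k] {X Y : Scheme.{u}} [X.Over (Spec (CommRingCat.of k))]
  [Y.Over (Spec (CommRingCat.of k))] [IsIntegral X] [IsProper (X ↘ Spec (CommRingCat.of k))]
  [GeometricallyIntegral (X ↘ Spec (CommRingCat.of k))] [IsIntegral Y] [IsProper (Y ↘ Spec (CommRingCat.of k))]
  [HasInjectiveResolutions (pullback (X ↘ Spec (CommRingCat.of k)) (Y ↘ Spec (CommRingCat.of k))).Modules]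
  (gX : G1 k X) (gY : G1 k Y)
  {P : (pullback (X ↘ Spec (CommRingCat.of k)) (Y ↘ Spec (CommRingCat.of k))).Modules}
  (hP : PicF.IsInvertible P) (σ : Spec (CommRingCat.of k) ⟶ Y) (hσ : σ ≫ (Y ↘ Spec (CommRingCat.of k)) = 𝟙 _)
  (eσ : (Scheme.Modules.pullback (js (X := X) σ hσ)).obj P ≅ Coh.structureModule X)
  (e : Spec (CommRingCat.of k) ⟶ X) (he : e ≫ (X ↘ Spec (CommRingCat.of k)) = 𝟙 _)
  (h0 : ∀ i, i ≠ 1 → IsZero ((Coh.Rpush (pullback.fst (X ↘ Spec (CommRingCat.of k))
      (Y ↘ Spec (CommRingCat.of k))) i).obj P))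
  (e1 : (Coh.Rpush (pullback.fst (X ↘ Spec (CommRingCat.of k)) (Y ↘ Spec (CommRingCat.of k))) 1).obj P ≅
    (Coh.push e).obj (Coh.structureModule (Spec (CommRingCat.of k))))

include gX gY hP eσ he h0 e1

/-- The transform of a semistable module of negative degree. -/
theorem transform_neg {M : X.Modules} (hM : FlatMod.IsFinLocFree M) (hs : SS k M) (hd : dg k M < 0) :
    (∀ i, i ≠ 1 → IsZero ((Coh.Rpush (pullback.snd (X ↘ Spec (CommRingCat.of k))
      (Y ↘ Spec (CommRingCat.of k))) i).obj (tw P M))) ∧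
    FlatMod.IsFinLocFreeOfRank (-dg k M).toNat ((Coh.Rpush (pullback.snd (X ↘ Spec (CommRingCat.of k))
      (Y ↘ Spec (CommRingCat.of k))) 1).obj (tw P M)) ∧
    dg k ((Coh.Rpush (pullback.snd (X ↘ Spec (CommRingCat.of k)) (Y ↘ Spec (CommRingCat.of k))) 1).obj (tw P M)) =
      rk M := by
  have := isLocNoeth gY.crv
  obtain ⟨h1, h2⟩ := Push.neg gX hP σ hσ eσ hM hs hd
  refine ⟨h1, h2, ?_⟩
  have h3 := DegPush.main gX hP e he h0 e1 (isFinLocFreeOfRank_rk hM) 1 h1
  rw [gY.euler] at h3
  linarith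

/-- The transform of a semistable module of positive degree. -/
theorem transform_pos {M : X.Modules} (hM : FlatMod.IsFinLocFree M) (hs : SS k M) (hd : 0 < dg k M) :
    (∀ i, i ≠ 0 → IsZero ((Coh.Rpush (pullback.snd (X ↘ Spec (CommRingCat.of k))
      (Y ↘ Spec (CommRingCat.of k))) i).obj (tw P M))) ∧
    FlatMod.IsFinLocFreeOfRank (dg k M).toNat ((Coh.Rpush (pullback.snd (X ↘ Spec (CommRingCat.of k))
      (Y ↘ Spec (CommRingCat.of k))) 0).obj (tw P M)) ∧
    dg k ((Coh.Rpush (pullback.snd (X ↘ Spec (CommRingCat.of k)) (Y ↘ Spec (CommRingCat.of k))) 0).obj (tw P M)) =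
      - rk M := by
  have := isLocNoeth gY.crv
  obtain ⟨h1, h2⟩ := Push.pos gX hP σ hσ eσ hM hs hd
  refine ⟨h1, h2, ?_⟩
  have h3 := DegPush.main gX hP e he h0 e1 (isFinLocFreeOfRank_rk hM) 0 h1
  rw [gY.euler] at h3
  linarith

/-- **Semistability from the inverse transform.** -/
theorem ss_of_back {G : X.Modules} (hG : FlatMod.IsFinLocFree G) (hd : 0 < dg k G) {B : Y.Modules}
    (hB : SS k B) (hr : (rk B : ℤ) = dg k G) (hdB : dg k B = - rk G)
    (back : (Coh.Rpush (pullback.snd (X ↘ Spec (CommRingCat.of k)) (Y ↘ Spec (CommRingCat.of k))) 0).obj (tw P G) ≅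
      B) : SS k G := by
  have C := gX.crv
  have hfl := gY.smooth
  have hpos : 0 < rk G := by
    rcases Nat.eq_zero_or_pos (rk G) with h | h
    · rw [dg_of_vb_of_rk_eq_zero C hG h] at hd
      omega
    · exact h
  obtain ⟨G', Q, j, q, w, hS, hG', -, hr', hss, hmax, -⟩ := K707.MaxSlope.exists_max C hG hpos
  have hj : Mono j := hS.mono_f
  have h1 := hmax G (𝟙 G) inferInstance hG
  have hr'' : (0 : ℤ) < rk G' := by exact_mod_cast hr'
  have hpos' : (0 : ℤ) < rk G := by exact_mod_cast hpos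
  have hd' : 0 < dg k G' := by
    by_contra h
    have h2 : dg k G' * rk G ≤ 0 := mul_nonpos_of_nonpos_of_nonneg (not_lt.mp h) hpos'.le
    have h3 : 0 < dg k G * rk G' := mul_pos hd hr''
    omega
  obtain ⟨-, h4, h5⟩ := transform_pos gX gY hP σ hσ eσ e he h0 e1 hG' hss hd'
  obtain ⟨φ, hφ⟩ := exists_mono (pullback.fst (X ↘ Spec (CommRingCat.of k)) (Y ↘ Spec (CommRingCat.of k)))
    (pullback.snd (X ↘ Spec (CommRingCat.of k)) (Y ↘ Spec (CommRingCat.of k))) hP j
  have h6 := hB _ (φ ≫ back.hom) (mono_comp _ _) (isFinLocFree_of_rank h4)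
  rw [h5, hr, hdB, rk_of_rank h4, Int.toNat_of_nonneg hd'.le] at h6
  have h7 : dg k G' * rk G ≤ dg k G * rk G' := by linarith
  intro F i hi hF
  have h8 := hmax F i hi hF
  have h9 : (dg k F * rk G) * rk G' ≤ (dg k G * rk F) * rk G' := by
    calc (dg k F * rk G) * rk G' = (dg k F * rk G') * rk G := by ring
      _ ≤ (dg k G' * rk F) * rk G := mul_le_mul_of_nonneg_right h8 hpos'.le
      _ = (dg k G' * rk G) * rk F := by ring
      _ ≤ (dg k G * rk G') * rk F := mul_le_mul_of_nonneg_right h7 (by positivity)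
      _ = (dg k G * rk F) * rk G' := by ring
  exact le_of_mul_le_mul_right h9 hr''

end Main

end K985.SSMain
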