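import Groth.Agent.VBCurve.K985.AV
import Groth.Agent.VBCurve.K985.SSMain
import Groth.Agent.VBCurve.K985.Derived
import Groth.Agent.VBCurve.K705.InvolX
import Groth.Agent.PerfA.QCohD
import Groth.Agent.PerfC.PullKFlat
import Groth.Agent.Dcoh.DerSch

/-!
# The Fourier–Mukai transform of semistable modules of negative degree on an elliptic curve (helper985)

`main`: the statement, from the direct images of the Poincaré module along the two projections and the inversion
formula `Φ' Φ = (-1)^*[-1]`.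
-/

set_option autoImplicit false
universe u
open CategoryTheory CategoryTheory.Limits MonoidalCategory CartesianMonoidalCategory MonObj GrpObj AlgebraicGeometry
attribute [local instance] HasDerivedCategory.standard

namespace K985.Final

open Groth.Agent Groth.Agent.VarietyA.DegRank K707.Base K707.Deg K707.Slope K707.Semi K705.Gen1 K707.TensL
open K985.Fib K985.Push K985.SSMain K985.AV K985.Derived

section auto

variable {k : Type u} [Field k] {X : Scheme.{u}} [X.Over (Spec (CommRingCat.of k))]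
  [IsIntegral X] [IsProper (X ↘ (Spec (CommRingCat.of k)))]

/-- Semistability of the pull back along an involution. -/
theorem ss_invol (hdim : topologicalKrullDim X = 1) (σ : X ⟶ X) (hσ : σ ≫ σ = 𝟙 X)
    (hσS : σ ≫ (X ↘ (Spec (CommRingCat.of k))) = X ↘ (Spec (CommRingCat.of k))) {F : X.Modules}
    (hF : FlatMod.IsFinLocFree F) (h : SS k F) : SS k ((Scheme.Modules.pullback σ).obj F) := by
  have := K705.InvolX.isIso σ hσ
  have := K705.InvolX.isEquivalence σ hσ
  intro C i hi hC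
  obtain ⟨h1, h2, -⟩ := K705.InvolX.dg_pullback (k := k) σ hσS hdim hF
  obtain ⟨h3, h4, h5⟩ := K705.InvolX.dg_pullback (k := k) σ hσS hdim hC
  have h6 : Mono ((Scheme.Modules.pullback σ).map i) := inferInstance
  have h7 := h _ ((Scheme.Modules.pullback σ).map i ≫ (K705.InvolX.c σ hσ).hom.app F) (mono_comp _ _) h5
  rw [h3, h4] at h7
  rw [h1, h2]
  exact h7

end auto

theorem inv_inv (k : Type u) [Field k] (E : Over (Spec (CommRingCat.of k))) [GrpObj E] :
    ((𝟙 E)⁻¹).left ≫ ((𝟙 E)⁻¹).left = 𝟙 E.left := by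
  have h : (𝟙 E)⁻¹ ≫ (𝟙 E)⁻¹ = 𝟙 E := by
    rw [GrpObj.comp_inv, Category.comp_id, _root_.inv_inv]
  rw [← Over.comp_left, h]
  rfl

theorem main (k : Type u) [Field k]
    (E Et : Over (Spec (CommRingCat.of k))) [GrpObj E] [IsProper E.hom] [Smooth E.hom] [GeometricallyConnected E.hom]
    [GrpObj Et] [IsProper Et.hom] [Smooth Et.hom] [GeometricallyConnected Et.hom]
    (hdim : topologicalKrullDim ↥E.left = 1) (hdimt : topologicalKrullDim ↥Et.left = 1)
    (φ : ∀ T : Over (Spec (CommRingCat.of k)), PicF.Cl (PicF.XT E.hom T) → (T ⟶ Et))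
    (hφ : AbDual.IsDualAV Scheme.fppfPrecoverage E Et φ)
    (P : (pullback E.hom Et.hom).Modules) (hP : PicF.IsInvertible P)
    (hPξ : AbDual.IsPoincareCl E Et φ (PicF.cl P))
    (hz1 : ∀ i : ℕ, i ≠ 1 → IsZero ((Coh.Rpush (pullback.fst E.hom Et.hom) i).obj P))
    (hs1 : Nonempty ((Coh.Rpush (pullback.fst E.hom Et.hom) 1).obj P ≅
      (Coh.push η[E].left).obj (Coh.structureModule (Spec (CommRingCat.of k)))))
    (hz2 : ∀ i : ℕ, i ≠ 1 → IsZero ((Coh.Rpush (pullback.snd E.hom Et.hom) i).obj P))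
    (hs2 : Nonempty ((Coh.Rpush (pullback.snd E.hom Et.hom) 1).obj P ≅
      (Coh.push η[Et].left).obj (Coh.structureModule (Spec (CommRingCat.of k)))))
    [DCoh.HasLpull (pullback.fst E.hom Et.hom)] [DCoh.HasLTensorMod P] [DCoh.HasRpush (pullback.snd E.hom Et.hom)]
    [DCoh.HasLpull (pullback.fst Et.hom E.hom)]
    [DCoh.HasLTensorMod ((Scheme.Modules.pullback (pullbackSymmetry Et.hom E.hom).hom).obj P)]
    [DCoh.HasRpush (pullback.snd Et.hom E.hom)] [DCoh.HasLpull ((𝟙 E)⁻¹).left]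
    (hinv : Nonempty (ObjectProperty.ι (DCoh.IsQCohD (X := E.left)) ⋙ (DCoh.Lpull (pullback.fst E.hom Et.hom) ⋙ DCoh.LTensorMod P ⋙ DCoh.Rpush (pullback.snd E.hom Et.hom)) ⋙
        (DCoh.Lpull (pullback.fst Et.hom E.hom) ⋙
          DCoh.LTensorMod ((Scheme.Modules.pullback (pullbackSymmetry Et.hom E.hom).hom).obj P) ⋙
          DCoh.Rpush (pullback.snd Et.hom E.hom)) ≅
      ObjectProperty.ι (DCoh.IsQCohD (X := E.left)) ⋙ DCoh.Lpull ((𝟙 E)⁻¹).left ⋙
        shiftFunctor (DCoh.D E.left) (-1 : ℤ)))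
    (r : ℕ) (hr : 0 < r) (F : E.left.Modules) (hF : FlatMod.IsFinLocFreeOfRank r F)
    (d : ℤ) (hd : @Curv2.deg k _ E.left ⟨E.hom⟩ F r = d) (hdneg : d < 0)
    (hFss : ∀ (F' : E.left.Modules) (r' : ℕ) (i : F' ⟶ F), Mono i → 0 < r' → FlatMod.IsFinLocFreeOfRank r' F' →
      @Curv2.deg k _ E.left ⟨E.hom⟩ F' r' * (r : ℤ) ≤ d * (r' : ℤ)) :
    ∃ (G : Et.left.Modules), FlatMod.IsFinLocFreeOfRank (-d).toNat G ∧
      @Curv2.deg k _ Et.left ⟨Et.hom⟩ G (-d).toNat = (r : ℤ) ∧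
      (∀ (F' : Et.left.Modules) (r' : ℕ) (i : F' ⟶ G), Mono i → 0 < r' → FlatMod.IsFinLocFreeOfRank r' F' →
        @Curv2.deg k _ Et.left ⟨Et.hom⟩ F' r' * ((-d).toNat : ℤ) ≤ @Curv2.deg k _ Et.left ⟨Et.hom⟩ G (-d).toNat * (r' : ℤ)) ∧
      Nonempty ((DCoh.Lpull (pullback.fst E.hom Et.hom) ⋙ DCoh.LTensorMod P ⋙ DCoh.Rpush (pullback.snd E.hom Et.hom)).obj (DCoh.inD E.left F) ≅
        (shiftFunctor (DCoh.D Et.left) (-1 : ℤ)).obj (DCoh.inD Et.left G)) := by
  let oE : E.left.Over (Spec (CommRingCat.of k)) := ⟨E.hom⟩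
  let oEt : Et.left.Over (Spec (CommRingCat.of k)) := ⟨Et.hom⟩
  have gE : G1 k E.left := g1 E hdim
  have gEt : G1 k Et.left := g1 Et hdimt
  have p1 : IsProper (E.left ↘ Spec (CommRingCat.of k)) := inferInstanceAs (IsProper E.hom)
  have p2 : IsProper (Et.left ↘ Spec (CommRingCat.of k)) := inferInstanceAs (IsProper Et.hom)
  have q1 : GeometricallyIntegral (E.left ↘ Spec (CommRingCat.of k)) := K708.Geom.geometricallyIntegral E.hom
  have q2 : GeometricallyIntegral (Et.left ↘ Spec (CommRingCat.of k)) := K708.Geom.geometricallyIntegral Et.hom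
  have n1 : IsIntegral E.left := K708.Coho.isIntegral_of_geomInt k
  have n2 : IsIntegral Et.left := K708.Coho.isIntegral_of_geomInt k
  have hinj : ∀ X : Scheme.{u}, HasInjectiveResolutions X.Modules := Vancyc.H175.Leray.hasInjectiveResolutions
  have hPi : PicF.IsInvertible ((Scheme.Modules.pullback (pullbackSymmetry Et.hom E.hom).hom).obj P) :=
    Fdesc.LocGen.isInvertible_pullback _ hP
  have w1 : η[E].left ≫ E.hom = 𝟙 (Spec (CommRingCat.of k)) := Over.w η[E]
  have w2 : η[Et].left ≫ Et.hom = 𝟙 (Spec (CommRingCat.of k)) := Over.w η[Et]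
  obtain ⟨u1⟩ := nonempty_unit hφ hP hPξ
  obtain ⟨u2⟩ := nonempty_unit_swap hPξ
  obtain ⟨s1⟩ := hs1
  obtain ⟨s2⟩ := hs2
  -- the module `F`
  have hFv := isFinLocFree_of_rank hF
  have hrk : rk F = r := rk_of_rank hF
  have hdg : dg k F = d := (dg_of_rank k hF).trans hd
  have hss : SS k F := by
    rw [ss_iff gE.crv hF]
    intro F' r' i hi h0 hF'
    have h1 := hFss F' r' i hi h0 hF'
    rw [← hd] at h1
    exact h1
  obtain ⟨hv, hGr, hGd⟩ := transform_neg (X := E.left) (Y := Et.left) gE gEt (P := P) hP η[Et].left w2 u1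
    η[E].left w1 hz1 s1 hFv hss (by rw [hdg]; exact hdneg)
  rw [hdg] at hGr
  rw [hrk] at hGd
  let G : Et.left.Modules := (Coh.Rpush (pullback.snd E.hom Et.hom) 1).obj
    (CohB1.tensorMod ((Scheme.Modules.pullback (pullback.fst E.hom Et.hom)).obj F) P)
  have hGr' : FlatMod.IsFinLocFreeOfRank (-d).toNat G := hGr
  have hGd' : dg k G = r := hGd
  have hGv : FlatMod.IsFinLocFree G := isFinLocFree_of_rank hGr'
  have hdt : ((-d).toNat : ℤ) = -d := Int.toNat_of_nonneg (by omega)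
  -- the transform
  obtain ⟨e1⟩ := nonempty_fm_single (pullback.fst E.hom Et.hom) (pullback.snd E.hom Et.hom) hP F 1 hv
  obtain ⟨e2⟩ := nonempty_single_one G
  -- the inverse transform
  obtain ⟨a⟩ := hinv
  have b := a.app ⟨DCoh.inD E.left F, PerfA.QCohD.isQCohD_inD F (coh_of_vb hFv).1⟩
  have hiso : IsIso ((𝟙 E)⁻¹).left := K705.InvolX.isIso _ (Final.inv_inv k E)
  obtain ⟨back⟩ := nonempty_back (pullback.fst Et.hom E.hom) (pullback.snd Et.hom E.hom) hPi G _ e1
    ((𝟙 E)⁻¹).left F b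
  have hσS : ((𝟙 E)⁻¹).left ≫ (E.left ↘ (Spec (CommRingCat.of k))) = E.left ↘ (Spec (CommRingCat.of k)) :=
    Over.w (𝟙 E)⁻¹
  obtain ⟨h1, h2, -⟩ := K705.InvolX.dg_pullback (k := k) ((𝟙 E)⁻¹).left hσS hdim hFv
  have hGss : SS k G := by
    refine ss_of_back (X := Et.left) (Y := E.left) gEt gE hPi η[E].left w1 u2 η[Et].left w2 ?_ ?_ hGv ?_
      (ss_invol hdim ((𝟙 E)⁻¹).left (Final.inv_inv k E) hσS hFv hss) ?_ ?_ back
    · intro i hi
      obtain ⟨c⟩ := nonempty_swap (A := E) (At := Et) P i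
      exact (hz2 i hi).of_iso c
    · exact (nonempty_swap (A := E) (At := Et) P 1).some ≪≫ s2
    · rw [hGd']
      exact_mod_cast hr
    · rw [h2, hrk, hGd']
    · rw [h1, hdg, rk_of_rank hGr', hdt, neg_neg]
  refine ⟨G, hGr', (dg_of_rank k hGr').symm.trans hGd', ?_, ⟨e1 ≪≫ e2⟩⟩
  exact (ss_iff gEt.crv hGr').mp hGss

end K985.Final
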