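import Groth.Agent.VBCurve.K985.Fib
import Groth.Agent.PerfC.PullRestrict
import Groth.Agent.AbVar.K504.Hodge
import Groth.Agent.AbVar.K511.Poin2
import Groth.Agent.Ega2.QCohLocal
import Groth.Agent.FormalA.RpushFlasque
import Groth.Agent.Nrm16.K137.IsoPull
import Groth.Agent.S1612

/-!
# Elliptic curves and their duals: genus, the Poincaré module on the unit fibres, the swap of factors (helper985)
-/

set_option autoImplicit false
universe u
open CategoryTheory CategoryTheory.Limits MonoidalCategory CartesianMonoidalCategory MonObj GrpObj AlgebraicGeometry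

namespace K985.AV

open Groth.Agent Groth.Agent.VarietyA.DegRank K707.Base K707.Deg K707.Slope K707.Semi K705.Gen1 K707.TensL
open K985.Fib
open Groth.Agent.Grpsch.PicGrp Groth.Agent.Grpsch.Cube Groth.Agent.Fga.RigGrp K732.Cov K732.PicZero
  K732.RigSheaf K732.Dual

section iso

variable {W' W Y : Scheme.{u}} (s : W' ⟶ W) [IsIso s] (f : W ⟶ Y) [HasInjectiveResolutions W.Modules]
  [HasInjectiveResolutions W'.Modules]

/-- Direct images along `s ≫ f`, `s` an isomorphism. -/
theorem nonempty_rpush_iso (P : W.Modules) (n : ℕ) :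
    Nonempty ((Coh.Rpush (s ≫ f) n).obj ((Scheme.Modules.pullback s).obj P) ≅ (Coh.Rpush f n).obj P) := by
  obtain ⟨a⟩ := FormalA.RpushFlasque.nonempty_rpush_comp_iso s f n ((Scheme.Modules.pullback s).obj P)
  have := K137.IsoPull.isIso_unit s P
  exact ⟨a.symm ≪≫ (Coh.Rpush f n).mapIso
    (asIso ((Scheme.Modules.pullbackPushforwardAdjunction s).unit.app P)).symm⟩

end iso

/-- The swap of factors on sections. -/
theorem lift_symm {S X Y : Scheme.{u}} (f : X ⟶ S) (g : Y ⟶ S) (e : S ⟶ X) (h1 : 𝟙 Y ≫ g = (g ≫ e) ≫ f)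
    (h2 : (g ≫ e) ≫ f = 𝟙 Y ≫ g) :
    pullback.lift (𝟙 Y) (g ≫ e) h1 ≫ (pullbackSymmetry g f).hom = pullback.lift (g ≫ e) (𝟙 Y) h2 := by
  apply pullback.hom_ext
  · rw [Category.assoc, pullbackSymmetry_hom_comp_fst, pullback.lift_snd, pullback.lift_fst]
  · rw [Category.assoc, pullbackSymmetry_hom_comp_snd, pullback.lift_fst, pullback.lift_snd]

variable {k : Type u} [Field k]

section curve

variable (E : Over (Spec (CommRingCat.of k))) [GrpObj E] [IsProper E.hom] [Smooth E.hom]
  [GeometricallyConnected E.hom]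

/-- An abelian variety of dimension one has genus one. -/
theorem g1 (hdim : topologicalKrullDim E.left = 1) :
    letI : E.left.Over (Spec (CommRingCat.of k)) := ⟨E.hom⟩
    G1 k E.left := by
  let _ : E.left.Over (Spec (CommRingCat.of k)) := ⟨E.hom⟩
  have i1 : GeometricallyIntegral (E.left ↘ Spec (CommRingCat.of k)) := K708.Geom.geometricallyIntegral E.hom
  have i2 : IsProper (E.left ↘ Spec (CommRingCat.of k)) := inferInstanceAs (IsProper E.hom)
  have i3 : Smooth (E.left ↘ Spec (CommRingCat.of k)) := inferInstanceAs (Smooth E.hom)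
  have i4 : IsIntegral E.left := K708.Coho.isIntegral_of_geomInt k
  have h0 : Module.finrank k (Coh.HH E.left (Coh.structureModule E.left) 0) = 1 :=
    K708.Coho.finrank_h0_structure k
  refine ⟨hdim, i3, ?_, h0⟩
  obtain ⟨n, hn⟩ := K504.Hodge.exists_relDim k E.left E.hom
  have h1 : topologicalKrullDim E.left = n := K504.Hodge.topologicalKrullDim_eq E.hom n
  obtain rfl : n = 1 := by
    rw [hdim] at h1
    exact_mod_cast h1.symm
  obtain ⟨e⟩ := K504.Hodge.exists_pullback E 1
  have e2 : Omega.sheaf E.hom ≅ Coh.structureModule E.left :=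
    e ≪≫ PerfC.PullRestrict.pullbackFreeMod E.hom 1 ≪≫ (Ega2.QCohLocal.freeModOneIso E.left).symm
  have h2 := (S1612.result k E.left ⟨i2, i3, i4, hdim⟩ h0).1
  rw [← h2]
  exact (Fib.finrank_iso e2 0).trans h0

end curve

section pair

variable {A At : Over (Spec (CommRingCat.of k))} [GrpObj A] [IsProper A.hom] [Smooth A.hom]
  [GeometricallyConnected A.hom] [GrpObj At] [IsProper At.hom] [Smooth At.hom] [GeometricallyConnected At.hom]
  {φ : ∀ T : Over (Spec (CommRingCat.of k)), PicF.Cl (PicF.XT A.hom T) → (T ⟶ At)}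
  (hD : AbDual.IsDualAV Scheme.fppfPrecoverage A At φ)
  {P : (pullback A.hom At.hom).Modules} (hP : PicF.IsInvertible P)
  (hPξ : AbDual.IsPoincareCl A At φ (PicF.cl P))

include hD hP hPξ in
/-- The Poincaré module is trivial on the fibre over the unit of the dual. -/
theorem nonempty_unit :
    letI : A.left.Over (Spec (CommRingCat.of k)) := ⟨A.hom⟩
    letI : At.left.Over (Spec (CommRingCat.of k)) := ⟨At.hom⟩
    Nonempty ((Scheme.Modules.pullback (js (X := A.left) (Y := At.left) η[At].left (Over.w η[At]))).obj P ≅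
      Coh.structureModule A.left) := by
  let _ : A.left.Over (Spec (CommRingCat.of k)) := ⟨A.hom⟩
  let _ : At.left.Over (Spec (CommRingCat.of k)) := ⟨At.hom⟩
  obtain ⟨ξ, h1, h2, h3, h4⟩ := K732.AV.exists_of_isPoincareCl hPξ
  have hξ : ξ = mk P hP := by
    apply toCl_injective
    rw [h4]
    rfl
  have h5 := K511.Poin2.pull_eq_one_of_unit hD h1 h2 h3
    (isPullback_js (X := A.left) (Y := At.left) η[At].left (Over.w η[At])) (by
      rw [Over.w η[At]]; exact (Category.id_comp _).symm)
  rw [hξ, pull_mk, mk_eq_one_iff] at h5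
  exact h5

omit [IsProper A.hom] [Smooth A.hom] [GeometricallyConnected A.hom] [IsProper At.hom] [Smooth At.hom]
  [GeometricallyConnected At.hom] in
include hPξ in
/-- The swapped Poincaré module is trivial on the fibre over the unit. -/
theorem nonempty_unit_swap :
    letI : A.left.Over (Spec (CommRingCat.of k)) := ⟨A.hom⟩
    letI : At.left.Over (Spec (CommRingCat.of k)) := ⟨At.hom⟩
    Nonempty ((Scheme.Modules.pullback (js (X := At.left) (Y := A.left) η[A].left (Over.w η[A]))).obj
      ((Scheme.Modules.pullback (pullbackSymmetry At.hom A.hom).hom).obj P) ≅ Coh.structureModule At.left) := by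
  let _ : A.left.Over (Spec (CommRingCat.of k)) := ⟨A.hom⟩
  let _ : At.left.Over (Spec (CommRingCat.of k)) := ⟨At.hom⟩
  have h1 : PicF.cl ((Scheme.Modules.pullback (PicF.secT A.hom η[A].left (Over.w η[A]) At)).obj P) =
    PicF.cl (Coh.structureModule At.left) := hPξ.2.2
  obtain ⟨e⟩ := (Groth.Agent.Fga.RigGrp.cl_eq_iff _ _).mp h1
  have h2 : js (X := At.left) (Y := A.left) η[A].left (Over.w η[A]) ≫ (pullbackSymmetry At.hom A.hom).hom =
      PicF.secT A.hom η[A].left (Over.w η[A]) At := lift_symm A.hom At.hom η[A].left _ _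
  exact ⟨(Scheme.Modules.pullbackComp _ _).app P ≪≫ (Scheme.Modules.pullbackCongr h2).app P ≪≫ e⟩

omit [GrpObj A] [IsProper A.hom] [Smooth A.hom] [GeometricallyConnected A.hom] [GrpObj At] [IsProper At.hom]
  [Smooth At.hom] [GeometricallyConnected At.hom] in
/-- Direct images of the swapped module. -/
theorem nonempty_swap [HasInjectiveResolutions (pullback A.hom At.hom).Modules]
    [HasInjectiveResolutions (pullback At.hom A.hom).Modules] (P : (pullback A.hom At.hom).Modules) (i : ℕ) :
    Nonempty ((Coh.Rpush (pullback.fst At.hom A.hom) i).obj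
      ((Scheme.Modules.pullback (pullbackSymmetry At.hom A.hom).hom).obj P) ≅
        (Coh.Rpush (pullback.snd A.hom At.hom) i).obj P) := by
  have h := nonempty_rpush_iso (pullbackSymmetry At.hom A.hom).hom (pullback.snd A.hom At.hom) P i
  rwa [pullbackSymmetry_hom_comp_snd] at h

end pair

end K985.AV
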