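import Groth.Agent.VBCurve.K985.Push
import Groth.Agent.Vancyc.H175.Leray
import Groth.Agent.VarietyB.HHPush
import Groth.Agent.Fga.HodgeMult
import Groth.Agent.Fga.HodgePush
import Groth.Agent.Krr.H463.SpecField

/-!
# The degree of the transform (helper985)

`P` on `X × Y` with `R^i p_* P = 0` for `i ≠ 1` and `R^1 p_* P` the skyscraper at a rational point of `X`:
`χ(X × Y, p^*M ⊗ P) = - rk M`, hence `(-1)^i χ(Y, R^i q_*(p^*M ⊗ P)) = - rk M` if the other direct images vanish.
-/

set_option autoImplicit false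
universe u
open CategoryTheory CategoryTheory.Limits AlgebraicGeometry

namespace K985.DegPush

open Groth.Agent Groth.Agent.VarietyA.DegRank K707.Base K707.Deg K707.Slope K707.Semi K705.Gen1 K707.TensL
open K985.Fib K985.Push

section single

variable {k : Type u} [Field k] {W Y : Scheme.{u}} [W.Over (Spec (CommRingCat.of k))]
  [Y.Over (Spec (CommRingCat.of k))] [IsProper (W ↘ Spec (CommRingCat.of k))]
  [IsProper (Y ↘ Spec (CommRingCat.of k))] [HasInjectiveResolutions W.Modules]

/-- Only one nonzero direct image. -/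
theorem euler_single (f : W ⟶ Y) (hf : f ≫ (Y ↘ Spec (CommRingCat.of k)) = W ↘ Spec (CommRingCat.of k))
    {N : W.Modules} (hN : Coh.IsCoh N) (i0 : ℕ) (h : ∀ i, i ≠ i0 → IsZero ((Coh.Rpush f i).obj N)) :
    Curv2.euler k W N = (-1 : ℤ) ^ i0 * Curv2.euler k Y ((Coh.Rpush f i0).obj N) := by
  rw [S1525.result k Y W f hf N hN]
  refine finsum_eq_single _ i0 fun i hi => ?_
  rw [Fga.ChiBasic.chi_isZero (Vancyc.H175.Leray.isAdd_euler k Y) (h i hi), mul_zero]

end single

section sky

variable {k : Type u} [Field k] {X : Scheme.{u}} [X.Over (Spec (CommRingCat.of k))] [IsIntegral X]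
  [IsProper (X ↘ Spec (CommRingCat.of k))]

theorem dim_ne_of_subsingleton (X : Scheme.{u}) [Subsingleton X] : topologicalKrullDim X ≠ 1 := by
  have h : topologicalKrullDim X ≤ 0 := by
    have : Subsingleton (TopologicalSpace.IrreducibleCloseds X) := by
      refine ⟨fun a b => ?_⟩
      apply TopologicalSpace.IrreducibleCloseds.ext
      obtain ⟨x, hx⟩ := a.isIrreducible.1
      obtain ⟨y, hy⟩ := b.isIrreducible.1
      ext z
      exact ⟨fun _ => (Subsingleton.elim y z) ▸ hy, fun _ => (Subsingleton.elim x z) ▸ hx⟩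
    exact Order.krullDim_nonpos_of_subsingleton
  intro h1
  rw [h1] at h
  exact absurd h (by decide)

/-- The skyscraper at a rational point of a curve: generically zero. -/
theorem rk_sky (hdim : topologicalKrullDim X = 1) (e : Spec (CommRingCat.of k) ⟶ X)
    (he : e ≫ (X ↘ Spec (CommRingCat.of k)) = 𝟙 _) (G : (Spec (CommRingCat.of k)).Modules) :
    rk ((Coh.push e).obj G) = 0 := by
  refine rk_eq_zero_of_subsingleton ?_
  have hc : IsClosed (Set.range e) := by
    have : IsClosedImmersion (e ≫ (X ↘ Spec (CommRingCat.of k))) := by rw [he]; infer_instance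
    have : IsClosedImmersion e := IsClosedImmersion.of_comp e (X ↘ Spec (CommRingCat.of k))
    exact e.isClosedEmbedding.isClosed_range
  have hs : Subsingleton (Set.range e) := by
    have : Subsingleton ↥(Spec (CommRingCat.of k)) := inferInstanceAs (Subsingleton (PrimeSpectrum k))
    refine ⟨fun a b => ?_⟩
    obtain ⟨a, x, rfl⟩ := a
    obtain ⟨b, y, rfl⟩ := b
    rw [Subtype.mk.injEq, Subsingleton.elim x y]
  by_contra hne
  have h1 : genericPoint X ∈ Set.range e := by
    have := Fga.HodgeMult.support_push_subset e G hne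
    rwa [hc.closure_eq] at this
  have h2 : (Set.univ : Set X) ⊆ Set.range e := by
    have h3 := genericPoint_spec X
    rw [← h3.def]
    exact closure_minimal (Set.singleton_subset_iff.mpr h1) hc
  have : Subsingleton X := ⟨fun a b => congrArg Subtype.val
    (hs.elim ⟨a, h2 (Set.mem_univ a)⟩ ⟨b, h2 (Set.mem_univ b)⟩)⟩
  exact dim_ne_of_subsingleton X hdim

theorem euler_sky (e : Spec (CommRingCat.of k) ⟶ X) (he : e ≫ (X ↘ Spec (CommRingCat.of k)) = 𝟙 _) :
    Curv2.euler k X ((Coh.push e).obj (Coh.structureModule (Spec (CommRingCat.of k)))) = 1 ∧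
      Coh.IsCoh ((Coh.push e).obj (Coh.structureModule (Spec (CommRingCat.of k)))) := by
  have : IsClosedImmersion (e ≫ (X ↘ Spec (CommRingCat.of k))) := by rw [he]; infer_instance
  have : IsClosedImmersion e := IsClosedImmersion.of_comp e (X ↘ Spec (CommRingCat.of k))
  have := isNoetherian k (X := X)
  have hO := coh_of_vb (K708.SSH0.vb_structureModule (X := Spec (CommRingCat.of k)))
  refine ⟨?_, Fga.HodgePush.isCoh_push _ hO⟩
  rw [VarietyB.HHPush.euler_push e k (by rw [he]; rfl) _ hO.1, Krr.H463.SpecField.euler_eq,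
    Krr.H463.SpecField.finrank_unit]
  rfl

/-- `χ(T ⊗ M) = rk M` for the skyscraper `T`. -/
theorem euler_sky_tensor (g : G1 k X) (e : Spec (CommRingCat.of k) ⟶ X)
    (he : e ≫ (X ↘ Spec (CommRingCat.of k)) = 𝟙 _) {T M : X.Modules}
    (eT : T ≅ (Coh.push e).obj (Coh.structureModule (Spec (CommRingCat.of k)))) {n : ℕ}
    (hM : FlatMod.IsFinLocFreeOfRank n M) : Curv2.euler k X (CohB1.tensorMod T M) = n := by
  obtain ⟨h1, h2⟩ := euler_sky (k := k) e he
  have h3 : Coh.IsCoh T := coh_iso eT.symm h2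
  rw [g.euler, K707.TensL.dg_tensor k g.dim hM h3, rk_iso eT, rk_sky g.dim e he, dg_iso k eT, ← g.euler, h1]
  simp

end sky

section Main

variable {k : Type u} [Field k] {X Y : Scheme.{u}} [X.Over (Spec (CommRingCat.of k))]
  [Y.Over (Spec (CommRingCat.of k))] [IsIntegral X] [IsProper (X ↘ Spec (CommRingCat.of k))]
  [IsProper (Y ↘ Spec (CommRingCat.of k))]
  [HasInjectiveResolutions (pullback (X ↘ Spec (CommRingCat.of k)) (Y ↘ Spec (CommRingCat.of k))).Modules]
  (g : G1 k X) {P : (pullback (X ↘ Spec (CommRingCat.of k)) (Y ↘ Spec (CommRingCat.of k))).Modules}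
  (hP : PicF.IsInvertible P) (e : Spec (CommRingCat.of k) ⟶ X) (he : e ≫ (X ↘ Spec (CommRingCat.of k)) = 𝟙 _)
  (h0 : ∀ i, i ≠ 1 → IsZero ((Coh.Rpush (pullback.fst (X ↘ Spec (CommRingCat.of k))
      (Y ↘ Spec (CommRingCat.of k))) i).obj P))
  (e1 : (Coh.Rpush (pullback.fst (X ↘ Spec (CommRingCat.of k)) (Y ↘ Spec (CommRingCat.of k))) 1).obj P ≅
    (Coh.push e).obj (Coh.structureModule (Spec (CommRingCat.of k))))

include g hP he h0 e1

theorem main {M : X.Modules} {n : ℕ} (hM : FlatMod.IsFinLocFreeOfRank n M) (i0 : ℕ)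
    (h : ∀ i, i ≠ i0 → IsZero ((Coh.Rpush (pullback.snd (X ↘ Spec (CommRingCat.of k))
      (Y ↘ Spec (CommRingCat.of k))) i).obj (tw P M))) :
    (-1 : ℤ) ^ i0 * Curv2.euler k Y ((Coh.Rpush (pullback.snd (X ↘ Spec (CommRingCat.of k))
      (Y ↘ Spec (CommRingCat.of k))) i0).obj (tw P M)) = - n := by
  let p := pullback.fst (X ↘ Spec (CommRingCat.of k)) (Y ↘ Spec (CommRingCat.of k))
  let q := pullback.snd (X ↘ Spec (CommRingCat.of k)) (Y ↘ Spec (CommRingCat.of k))
  let _ : (pullback (X ↘ Spec (CommRingCat.of k)) (Y ↘ Spec (CommRingCat.of k))).Over (Spec (CommRingCat.of k)) :=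
    ⟨p ≫ (X ↘ Spec (CommRingCat.of k))⟩
  have hW : IsProper ((pullback (X ↘ Spec (CommRingCat.of k)) (Y ↘ Spec (CommRingCat.of k))) ↘
    Spec (CommRingCat.of k)) := inferInstanceAs (IsProper (p ≫ (X ↘ Spec (CommRingCat.of k))))
  have hc : Coh.IsCoh (tw P M) := coh_of_vb (isFinLocFree_of_rank (rank_tw hP hM))
  have hvM := isFinLocFree_of_rank hM
  rw [← euler_single (k := k) q pullback.condition.symm hc i0 h]
  have h2 : ∀ i, Nonempty ((Coh.Rpush p i).obj (tw P M) ≅ CohB1.tensorMod ((Coh.Rpush p i).obj P) M) := by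
    intro i
    obtain ⟨a⟩ := S0927.result p P M hvM i
    exact ⟨a.symm ≪≫ Ega2.Tens.swap _ _⟩
  have h3 : ∀ i, i ≠ 1 → IsZero ((Coh.Rpush p i).obj (tw P M)) := by
    intro i hi
    obtain ⟨a⟩ := h2 i
    refine IsZero.of_iso ?_ a
    exact (Functor.map_isZero (DCoh.tensorRightMod M) (h0 i hi) : _)
  rw [euler_single (k := k) p rfl hc 1 h3]
  obtain ⟨a⟩ := h2 1
  rw [euler_iso k a, euler_sky_tensor g e he e1 hM]
  ring

end Main

end K985.DegPush
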