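import Groth.Agent.VBCurve.K705.Gen1
import Groth.Agent.VBCurve.K703.Stab
import Groth.Agent.VBCurve.K708.DualDeg

/-!
# Vanishing for semistable modules twisted by an invertible module of degree zero, genus one (helper985)
-/

set_option autoImplicit false
universe u
open CategoryTheory CategoryTheory.Limits AlgebraicGeometry MonoidalCategory

namespace K985.Van

open scoped Groth.Agent.Dcoh.MonCat
open Groth.Agent Groth.Agent.VarietyA.DegRank K707.Base K707.Deg K707.Slope K707.Semi K705.Gen1 K707.TensL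

variable {k : Type u} [Field k] {X : Scheme.{u}} [X.Over (Spec (CommRingCat.of k))]
  [IsIntegral X] [IsProper (X ↘ Spec (CommRingCat.of k))]

/-- The inverse of an invertible module, as a dual. -/
theorem exists_pairing (C : Crv k X) {L : X.Modules} (hL : PicF.IsInvertible L) :
    ∃ B : X.Modules, PicF.IsInvertible B ∧ dg k B = - dg k L ∧ Nonempty (ExactPairing B L) := by
  obtain ⟨B, hB, ⟨P⟩⟩ := K708.Dual.exists_dual (rank_one_iff.mpr hL)
  exact ⟨B, rank_one_iff.mp hB, K708.DualDeg.dg_dual C (vb_of_inv hL) B, ⟨K708.Dual.swapPairing L B⟩⟩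

theorem van_neg (g : G1 k X) {A L : X.Modules} (hA : FlatMod.IsFinLocFree A) (hs : SS k A)
    (hd : dg k A < 0) (hL : PicF.IsInvertible L) (hL0 : dg k L = 0) :
    Subsingleton (Coh.HH X (CohB1.tensorMod A L) 0) := by
  obtain ⟨B, hB, hB0, ⟨P⟩⟩ := exists_pairing g.crv hL
  rw [← K708.HomH0.forall_hom_eq_zero_iff B L A]
  intro φ
  refine SS.hom_eq_zero g.crv (K703.Stab.ss_of_inv g.crv hB) (vb_of_inv hB) hs hA ?_ φ
  have h1 : rk B = 1 := rk_of_rank (rank_one_iff.mpr hB)
  rw [hB0, hL0, h1]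
  simpa using hd

theorem van_pos (g : G1 k X) {A L : X.Modules} (hA : FlatMod.IsFinLocFree A) (hs : SS k A)
    (hd : 0 < dg k A) (hL : PicF.IsInvertible L) (hL0 : dg k L = 0) :
    Subsingleton (Coh.HH X (CohB1.tensorMod A L) 1) := by
  obtain ⟨B, hB, hB0, ⟨P⟩⟩ := exists_pairing g.crv hL
  have := isLocNoeth g.crv
  refine g.subsingleton_h1 (B := B) (coh_of_vb (vb_tensor hA (vb_of_inv hL))).1 fun φ => ?_
  refine SS.hom_eq_zero g.crv hs hA (K703.Stab.ss_of_inv g.crv hB) (vb_of_inv hB) ?_ φ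
  have h1 : rk B = 1 := rk_of_rank (rank_one_iff.mpr hB)
  rw [hB0, hL0, h1]
  simpa using hd

/-- The dimension of the only nonzero cohomology group. -/
theorem finrank_neg (g : G1 k X) {V : X.Modules} (h : Subsingleton (Coh.HH X V 0)) :
    (Module.finrank k (Coh.HH X V 1) : ℤ) = - Curv2.euler k X V := by
  rw [K708.Coho.euler_eq k g.dim.le]
  have h0 : Module.finrank k (Coh.HH X V 0) = 0 := Module.finrank_zero_of_subsingleton
  rw [h0]
  simp

theorem finrank_pos (g : G1 k X) {V : X.Modules} (h : Subsingleton (Coh.HH X V 1)) :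
    (Module.finrank k (Coh.HH X V 0) : ℤ) = Curv2.euler k X V := by
  rw [K708.Coho.euler_eq k g.dim.le]
  have : Module.finrank k (Coh.HH X V 1) = 0 := Module.finrank_zero_of_subsingleton
  rw [this]
  simp

end K985.Van
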