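import Groth.Agent.VBCurve.K985.SSBc
import Groth.Agent.VBCurve.K985.Van
import Groth.Agent.ShStab.K846.ChiPt
import Groth.Agent.Dcoh.MonPull292
import Groth.Agent.Grpsch.CubeClosed
import Groth.Agent.Desc.FinLocFreeSections
import Groth.Agent.Ega3B.FibreResid
import Groth.Agent.VBCurve.K708.SSH0

/-!
# Cohomology of `p^*M ⊗ P` on the fibres over field-valued points (helper985)

`X`, `Y` over a field `k`, `P` an invertible module on `X × Y` which is trivial on `X × {σ}` for one rational point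
`σ` of the connected scheme `Y`, `X` of genus one. For `M` semistable of negative (positive) degree and every point
`t` of `Y` with values in a field `K`, the only cohomology of `(p^*M ⊗ P)_t` is in degree one (zero) and has
dimension `|deg M|`.
-/

set_option autoImplicit false
universe u
open CategoryTheory CategoryTheory.Limits AlgebraicGeometry MonoidalCategory

namespace K985.Fib

open scoped Groth.Agent.Dcoh.MonCat
open Groth.Agent Groth.Agent.VarietyA.DegRank K707.Base K707.Deg K707.Slope K707.Semi K705.Gen1 K707.TensL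

/-- Pullback of a tensor product. -/
noncomputable def pullTens {X Y : Scheme.{u}} (f : X ⟶ Y) (A B : Y.Modules) :
    (Scheme.Modules.pullback f).obj (CohB1.tensorMod A B) ≅
      CohB1.tensorMod ((Scheme.Modules.pullback f).obj A) ((Scheme.Modules.pullback f).obj B) :=
  letI := Dcoh.MonPull.monPull f
  (Functor.Monoidal.μIso (Scheme.Modules.pullback f) A B).symm

/-- Tensor products of isomorphisms. -/
noncomputable def tensCongr {X : Scheme.{u}} {A A' B B' : X.Modules} (e : A ≅ A') (e' : B ≅ B') :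
    CohB1.tensorMod A B ≅ CohB1.tensorMod A' B' :=
  (show A ⊗ B ≅ A' ⊗ B' from e ⊗ᵢ e')

/-- `M ⊗ O = M`. -/
noncomputable def tensUnit {X : Scheme.{u}} (A : X.Modules) :
    CohB1.tensorMod A (Coh.structureModule X) ≅ A :=
  (show A ⊗ 𝟙_ X.Modules ≅ A from ρ_ A)

/-- Isomorphic modules have the same cohomology. -/
theorem subsingleton_iso {X : Scheme.{u}} {M N : X.Modules} (e : M ≅ N) (i : ℕ)
    (h : Subsingleton (Coh.HH X N i)) : Subsingleton (Coh.HH X M i) := by
  obtain ⟨e', -⟩ := Ega3B.FibreResid.exists_equiv_HH e i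
  exact e'.toEquiv.subsingleton

theorem finrank_iso {k : Type u} [Field k] {X : Scheme.{u}} [X.Over (Spec (CommRingCat.of k))] {M N : X.Modules}
    (e : M ≅ N) (i : ℕ) : Module.finrank k (Coh.HH X M i) = Module.finrank k (Coh.HH X N i) := by
  obtain ⟨e', he'⟩ := Ega3B.FibreResid.exists_equiv_HH e i
  let e2 : Coh.HH X M i ≃ₗ[k] Coh.HH X N i := { e' with map_smul' := fun r x => he' _ x }
  exact e2.finrank_eq

section Sq

variable {k : Type u} [Field k] {X Y : Scheme.{u}} [X.Over (Spec (CommRingCat.of k))]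
  [Y.Over (Spec (CommRingCat.of k))]

section K

variable (K : Type u) [Field K] [Algebra k K] (t : Spec (CommRingCat.of K) ⟶ Y)
  (ht : t ≫ (Y ↘ Spec (CommRingCat.of k)) = Spec.map (CommRingCat.ofHom (algebraMap k K)))

/-- The fibre of `X × Y → Y` at `t`. -/
noncomputable def jt : Curv2.bc k X K ⟶
    pullback (X ↘ Spec (CommRingCat.of k)) (Y ↘ Spec (CommRingCat.of k)) :=
  pullback.lift (Curv2.bcFst k X K) (Curv2.bcSnd k X K ≫ t) (by
    rw [Category.assoc, ht]; exact pullback.condition)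

theorem jt_fst : jt (X := X) K t ht ≫ pullback.fst _ _ = Curv2.bcFst k X K := pullback.lift_fst _ _ _

theorem jt_snd : jt (X := X) K t ht ≫ pullback.snd _ _ = Curv2.bcSnd k X K ≫ t := pullback.lift_snd _ _ _

theorem isPullback_jt : IsPullback (jt (X := X) K t ht) (Curv2.bcSnd k X K)
    (pullback.snd (X ↘ Spec (CommRingCat.of k)) (Y ↘ Spec (CommRingCat.of k))) t := by
  refine IsPullback.of_right (h₁₂ := pullback.fst _ _) (v₁₃ := X ↘ Spec (CommRingCat.of k))
    (h₂₂ := Y ↘ Spec (CommRingCat.of k)) ?_ (jt_snd K t ht) (IsPullback.of_hasPullback _ _)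
  rw [jt_fst, ht]
  exact IsPullback.of_hasPullback _ _

end K

section Pt

variable (σ : Spec (CommRingCat.of k) ⟶ Y) (hσ : σ ≫ (Y ↘ Spec (CommRingCat.of k)) = 𝟙 _)

/-- The fibre of `X × Y → Y` at a rational point. -/
noncomputable def js : X ⟶ pullback (X ↘ Spec (CommRingCat.of k)) (Y ↘ Spec (CommRingCat.of k)) :=
  pullback.lift (𝟙 X) ((X ↘ Spec (CommRingCat.of k)) ≫ σ) (by
    rw [Category.assoc, hσ, Category.id_comp, Category.comp_id])

theorem js_fst : js (X := X) σ hσ ≫ pullback.fst _ _ = 𝟙 X := pullback.lift_fst _ _ _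

theorem isPullback_js : IsPullback (js (X := X) σ hσ) (X ↘ Spec (CommRingCat.of k))
    (pullback.snd (X ↘ Spec (CommRingCat.of k)) (Y ↘ Spec (CommRingCat.of k))) σ := by
  refine IsPullback.of_right (h₁₂ := pullback.fst _ _) (v₁₃ := X ↘ Spec (CommRingCat.of k))
    (h₂₂ := Y ↘ Spec (CommRingCat.of k)) ?_ (pullback.lift_snd _ _ _) (IsPullback.of_hasPullback _ _)
  rw [js_fst, hσ]
  exact IsPullback.id_horiz _

end Pt

end Sq

/-- Constancy of the Euler characteristic over field-valued points of a connected base. -/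
theorem euler_const {W Y : Scheme.{u}} (f : W ⟶ Y) [IsProper f] [LocallyOfFinitePresentation f]
    [PreconnectedSpace Y] (N : W.Modules) (hN : CohB1.IsFP N) (hq : Coh.IsQCoh N) (hfl : FlatMod.IsFlatOver f N)
    {K K' : Type u} [Field K] [Field K'] {t : Spec (CommRingCat.of K) ⟶ Y} {t' : Spec (CommRingCat.of K') ⟶ Y}
    {X₁ X₂ : Scheme.{u}} {j₁ : X₁ ⟶ W} {q₁ : X₁ ⟶ Spec (CommRingCat.of K)} (H₁ : IsPullback j₁ q₁ f t)
    {j₂ : X₂ ⟶ W} {q₂ : X₂ ⟶ Spec (CommRingCat.of K')} (H₂ : IsPullback j₂ q₂ f t') :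
    @Curv2.euler K _ X₁ ⟨q₁⟩ ((Scheme.Modules.pullback j₁).obj N) =
      @Curv2.euler K' _ X₂ ⟨q₂⟩ ((Scheme.Modules.pullback j₂).obj N) := by
  rw [K846.ChiPt.euler_pt f t (IsLocalRing.closedPoint K) j₁ q₁ H₁ N hq,
    K846.ChiPt.euler_pt f t' (IsLocalRing.closedPoint K') j₂ q₂ H₂ N hq]
  exact (S1026.result f N hN hfl).apply_eq_of_preconnectedSpace _ _

section Main

variable {k : Type u} [Field k] {X Y : Scheme.{u}} [X.Over (Spec (CommRingCat.of k))]
  [Y.Over (Spec (CommRingCat.of k))] [IsIntegral X] [IsProper (X ↘ Spec (CommRingCat.of k))]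
  [GeometricallyIntegral (X ↘ Spec (CommRingCat.of k))] [PreconnectedSpace Y]
  (g : G1 k X) {P : (pullback (X ↘ Spec (CommRingCat.of k)) (Y ↘ Spec (CommRingCat.of k))).Modules}
  (hP : PicF.IsInvertible P) (σ : Spec (CommRingCat.of k) ⟶ Y) (hσ : σ ≫ (Y ↘ Spec (CommRingCat.of k)) = 𝟙 _)
  (eσ : (Scheme.Modules.pullback (js (X := X) σ hσ)).obj P ≅ Coh.structureModule X)
  (K : Type u) [Field K] [Algebra k K] (t : Spec (CommRingCat.of K) ⟶ Y)
  (ht : t ≫ (Y ↘ Spec (CommRingCat.of k)) = Spec.map (CommRingCat.ofHom (algebraMap k K)))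

include g hP eσ

/-- `P_t` has degree zero. -/
theorem dg_fib : letI := SSBc.isIntegral_bc (k := k) (X := X) K
    dg K ((Scheme.Modules.pullback (jt (X := X) K t ht)).obj P) = 0 := by
  have := SSBc.isIntegral_bc (k := k) (X := X) K
  have gK := SSBc.g1_bc K g
  have hsm := g.smooth
  have i1 : IsProper (pullback.snd (X ↘ Spec (CommRingCat.of k)) (Y ↘ Spec (CommRingCat.of k))) := inferInstance
  have i2 : LocallyOfFinitePresentation
    (pullback.snd (X ↘ Spec (CommRingCat.of k)) (Y ↘ Spec (CommRingCat.of k))) := inferInstance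
  rw [← gK.euler]
  have hfl := Grpsch.CubeClosed.isFlatOver_of_isInvertible
    (pullback.snd (X ↘ Spec (CommRingCat.of k)) (Y ↘ Spec (CommRingCat.of k))) hP
  have hvb : FlatMod.IsFinLocFree P := vb_of_inv hP
  have h1 := euler_const (pullback.snd (X ↘ Spec (CommRingCat.of k)) (Y ↘ Spec (CommRingCat.of k))) P
    (Desc.FinLocFreeSections.isFP_of_isFinLocFree hvb) (coh_of_vb hvb).1 hfl
    (isPullback_jt (X := X) K t ht) (isPullback_js (X := X) σ hσ)
  refine h1.trans ?_
  change Curv2.euler k X _ = 0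
  rw [euler_iso k eσ, g.euler, K708.SSH0.dg_structureModule]

end Main

section Mod

variable {k : Type u} [Field k] {X Y : Scheme.{u}} [X.Over (Spec (CommRingCat.of k))]
  [Y.Over (Spec (CommRingCat.of k))]
  (P : (pullback (X ↘ Spec (CommRingCat.of k)) (Y ↘ Spec (CommRingCat.of k))).Modules)
  (K : Type u) [Field K] [Algebra k K] (t : Spec (CommRingCat.of K) ⟶ Y)
  (ht : t ≫ (Y ↘ Spec (CommRingCat.of k)) = Spec.map (CommRingCat.ofHom (algebraMap k K)))

/-- The module on the fibre. -/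
theorem nonempty_fib (M : X.Modules) : Nonempty ((Scheme.Modules.pullback (jt (X := X) K t ht)).obj
      (CohB1.tensorMod ((Scheme.Modules.pullback (pullback.fst (X ↘ Spec (CommRingCat.of k))
        (Y ↘ Spec (CommRingCat.of k)))).obj M) P) ≅
    CohB1.tensorMod ((Scheme.Modules.pullback (Curv2.bcFst k X K)).obj M)
      ((Scheme.Modules.pullback (jt (X := X) K t ht)).obj P)) :=
  ⟨pullTens _ _ _ ≪≫ tensCongr ((Scheme.Modules.pullbackComp _ _).app M ≪≫
    (Scheme.Modules.pullbackCongr (jt_fst (X := X) K t ht)).app M) (Iso.refl _)⟩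

end Mod

end K985.Fib
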