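import Groth.Agent.VBCurve.K985.Fib

/-!
# Cohomology of `p^*M ⊗ P` on the fibres over field-valued points, `M` semistable (helper985)
-/

set_option autoImplicit false
universe u
open CategoryTheory CategoryTheory.Limits AlgebraicGeometry MonoidalCategory

namespace K985.Fib

open scoped Groth.Agent.Dcoh.MonCat
open Groth.Agent Groth.Agent.VarietyA.DegRank K707.Base K707.Deg K707.Slope K707.Semi K705.Gen1 K707.TensL

section Curve

variable {k : Type u} [Field k] {X : Scheme.{u}} [X.Over (Spec (CommRingCat.of k))]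
  [IsIntegral X] [IsProper (X ↘ Spec (CommRingCat.of k))]

theorem subsingleton_two (g : G1 k X) (V : X.Modules) (n : ℕ) (hn : 2 ≤ n) : Subsingleton (Coh.HH X V n) := by
  have := K707.Deg.isNoetherian k (X := X)
  exact CurvesB.CurveRR.subsingleton_HH_of_two_le g.dim.le V n hn

theorem dg_twist (g : G1 k X) {A L : X.Modules} (hA : FlatMod.IsFinLocFree A) (hL : PicF.IsInvertible L)
    (hL0 : dg k L = 0) : dg k (CohB1.tensorMod A L) = dg k A := by
  rw [K707.TensL.dg_tensor k g.dim (rank_one_iff.mpr hL) (coh_of_vb hA), hL0]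
  simp

/-- Negative degree: concentrated in degree one. -/
theorem curve_neg (g : G1 k X) {A L V : X.Modules} (hA : FlatMod.IsFinLocFree A) (hs : SS k A)
    (hd : dg k A < 0) (hL : PicF.IsInvertible L) (hL0 : dg k L = 0) (e : V ≅ CohB1.tensorMod A L) :
    (∀ i, i ≠ 1 → Subsingleton (Coh.HH X V i)) ∧ (Module.finrank k (Coh.HH X V 1) : ℤ) = - dg k A := by
  have h0 := Van.van_neg g hA hs hd hL hL0
  refine ⟨fun i hi => ?_, ?_⟩
  · rcases Nat.eq_zero_or_pos i with rfl | hpos
    · exact subsingleton_iso e 0 h0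
    · exact subsingleton_two g V i (by omega)
  · rw [finrank_iso e 1, Van.finrank_neg g h0, g.euler, dg_twist g hA hL hL0]

/-- Positive degree: concentrated in degree zero. -/
theorem curve_pos (g : G1 k X) {A L V : X.Modules} (hA : FlatMod.IsFinLocFree A) (hs : SS k A)
    (hd : 0 < dg k A) (hL : PicF.IsInvertible L) (hL0 : dg k L = 0) (e : V ≅ CohB1.tensorMod A L) :
    (∀ i, i ≠ 0 → Subsingleton (Coh.HH X V i)) ∧ (Module.finrank k (Coh.HH X V 0) : ℤ) = dg k A := by
  have h1 := Van.van_pos g hA hs hd hL hL0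
  refine ⟨fun i hi => ?_, ?_⟩
  · rcases Nat.lt_or_ge 1 i with h | h
    · exact subsingleton_two g V i (by omega)
    · obtain rfl : i = 1 := by omega
      exact subsingleton_iso e 1 h1
  · rw [finrank_iso e 0, Van.finrank_pos g h1, g.euler, dg_twist g hA hL hL0]

end Curve

section Main

variable {k : Type u} [Field k] {X Y : Scheme.{u}} [X.Over (Spec (CommRingCat.of k))]
  [Y.Over (Spec (CommRingCat.of k))] [IsIntegral X] [IsProper (X ↘ Spec (CommRingCat.of k))]
  [GeometricallyIntegral (X ↘ Spec (CommRingCat.of k))] [PreconnectedSpace Y]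
  (g : G1 k X) {P : (pullback (X ↘ Spec (CommRingCat.of k)) (Y ↘ Spec (CommRingCat.of k))).Modules}
  (hP : PicF.IsInvertible P) (σ : Spec (CommRingCat.of k) ⟶ Y) (hσ : σ ≫ (Y ↘ Spec (CommRingCat.of k)) = 𝟙 _)
  (eσ : (Scheme.Modules.pullback (js (X := X) σ hσ)).obj P ≅ Coh.structureModule X)
  (K : Type u) [Field K] [Algebra k K] (t : Spec (CommRingCat.of K) ⟶ Y)
  (ht : t ≫ (Y ↘ Spec (CommRingCat.of k)) = Spec.map (CommRingCat.ofHom (algebraMap k K)))

include g hP eσ

theorem fib_neg {M : X.Modules} (hM : FlatMod.IsFinLocFree M) (hs : SS k M) (hd : dg k M < 0) :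
    (∀ i, i ≠ 1 → Subsingleton (Coh.HH (Curv2.bc k X K) ((Scheme.Modules.pullback (jt (X := X) K t ht)).obj
      (CohB1.tensorMod ((Scheme.Modules.pullback (pullback.fst (X ↘ Spec (CommRingCat.of k))
        (Y ↘ Spec (CommRingCat.of k)))).obj M) P)) i)) ∧
    (Module.finrank K (Coh.HH (Curv2.bc k X K) ((Scheme.Modules.pullback (jt (X := X) K t ht)).obj
      (CohB1.tensorMod ((Scheme.Modules.pullback (pullback.fst (X ↘ Spec (CommRingCat.of k))
        (Y ↘ Spec (CommRingCat.of k)))).obj M) P)) 1) : ℤ) = - dg k M := by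
  have := SSBc.isIntegral_bc (k := k) (X := X) K
  obtain ⟨e⟩ := nonempty_fib P K t ht M
  obtain ⟨h1, -, h3⟩ := SSBc.numbers_bc (k := k) K hM
  rw [← h3]
  exact curve_neg (SSBc.g1_bc K g) h1 (SSBc.ss_bc K g hM hs) (by rw [h3]; exact hd)
    (Fdesc.LocGen.isInvertible_pullback _ hP) (dg_fib g hP σ hσ eσ K t ht) e

theorem fib_pos {M : X.Modules} (hM : FlatMod.IsFinLocFree M) (hs : SS k M) (hd : 0 < dg k M) :
    (∀ i, i ≠ 0 → Subsingleton (Coh.HH (Curv2.bc k X K) ((Scheme.Modules.pullback (jt (X := X) K t ht)).obj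
      (CohB1.tensorMod ((Scheme.Modules.pullback (pullback.fst (X ↘ Spec (CommRingCat.of k))
        (Y ↘ Spec (CommRingCat.of k)))).obj M) P)) i)) ∧
    (Module.finrank K (Coh.HH (Curv2.bc k X K) ((Scheme.Modules.pullback (jt (X := X) K t ht)).obj
      (CohB1.tensorMod ((Scheme.Modules.pullback (pullback.fst (X ↘ Spec (CommRingCat.of k))
        (Y ↘ Spec (CommRingCat.of k)))).obj M) P)) 0) : ℤ) = dg k M := by
  have := SSBc.isIntegral_bc (k := k) (X := X) K
  obtain ⟨e⟩ := nonempty_fib P K t ht M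
  obtain ⟨h1, -, h3⟩ := SSBc.numbers_bc (k := k) K hM
  rw [← h3]
  exact curve_pos (SSBc.g1_bc K g) h1 (SSBc.ss_bc K g hM hs) (by rw [h3]; exact hd)
    (Fdesc.LocGen.isInvertible_pullback _ hP) (dg_fib g hP σ hσ eσ K t ht) e

end Main

end K985.Fib
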