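import Groth.Agent.VBCurve.K985.FibMain
import Groth.Agent.S2389
import Groth.Agent.Krr.H478.Cosection
import Groth.Agent.Sga2lef.H298.VanX0Core
import Groth.Agent.S0002
import Groth.Agent.AbVar.K524.FinSupp
import Groth.Agent.Pic13.H952.FibrePt

/-!
# Higher direct images from the cohomology of the fibres over field-valued points (helper985)
-/

set_option autoImplicit false
universe u
open CategoryTheory CategoryTheory.Limits AlgebraicGeometry

namespace K985.Push

open Groth.Agent Groth.Agent.VarietyA.DegRank K707.Base K707.Deg K707.Slope K707.Semi K705.Gen1 K707.TensL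
open K985.Fib

section General

variable {W Y : Scheme.{u}} (f : W ⟶ Y) [IsProper f]

/-- Betti numbers of the fibre from any field-valued point. -/
theorem fiberRank_eq {N : W.Modules} (hN : Coh.IsQCoh N) {K : Type u} [Field K]
    {t : Spec (CommRingCat.of K) ⟶ Y} {X₁ : Scheme.{u}} {j : X₁ ⟶ W} {q : X₁ ⟶ Spec (CommRingCat.of K)}
    (H : IsPullback j q f t) {y : Y} (hy : y ∈ Set.range t) (i : ℕ) :
    CohIII.fiberRank f N i y = @Module.finrank K (Coh.HH X₁ ((Scheme.Modules.pullback j).obj N) i) _ _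
      (@Coh.moduleOver K _ X₁ ⟨q⟩ _ i) := by
  let _ : X₁.Over (Spec (CommRingCat.of K)) := ⟨q⟩
  exact (Pic13.H952.FibrePt.finrank_eq_betti f t j H y hy N hN i).symm

theorem subsingleton_fiberH [IsLocallyNoetherian Y] {N : W.Modules} (hN : Coh.IsCoh N) (y : Y) (i : ℕ)
    (h : CohIII.fiberRank f N i y = 0) : Subsingleton (CohIII.fiberH f N y i) := by
  let _ : (f.fiber y).Over (Spec (CommRingCat.of (Y.residueField y))) := ⟨f.fiberToSpecResidueField y⟩
  have : IsProper (f.fiber y ↘ Spec (CommRingCat.of (Y.residueField y))) :=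
    inferInstanceAs (IsProper (pullback.snd f (Y.fromSpecResidueField y)))
  have hc : Coh.IsCoh ((Scheme.Modules.pullback (f.fiberι y)).obj N) := by
    have : IsLocallyNoetherian W := LocallyOfFiniteType.isLocallyNoetherian f
    exact FormalA.PullbackQC.isCoh_pullback _ _ hN
  have hfin : Module.Finite (Y.residueField y) (Coh.HH (f.fiber y) ((Scheme.Modules.pullback (f.fiberι y)).obj N) i) :=
    S0002.result (Y.residueField y) (f.fiber y) _ hc i
  exact (Module.finrank_zero_iff (R := Y.residueField y)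
    (M := Coh.HH (f.fiber y) ((Scheme.Modules.pullback (f.fiberι y)).obj N) i)).mp h

/-- Direct images of a flat module whose fibres have cohomology only in degree `i0`, of constant dimension. -/
theorem main [IsLocallyNoetherian Y] [HasInjectiveResolutions W.Modules] {N : W.Modules} (hN : Coh.IsCoh N)
    (hfl : FlatMod.IsFlatOver f N) (i0 r : ℕ)
    (h : ∀ y : Y, ∃ (K : Type u) (_ : Field K) (t : Spec (CommRingCat.of K) ⟶ Y) (X₁ : Scheme.{u}) (j : X₁ ⟶ W)
      (q : X₁ ⟶ Spec (CommRingCat.of K)), y ∈ Set.range t ∧ IsPullback j q f t ∧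
      (∀ i, i ≠ i0 → Subsingleton (Coh.HH X₁ ((Scheme.Modules.pullback j).obj N) i)) ∧
      @Module.finrank K (Coh.HH X₁ ((Scheme.Modules.pullback j).obj N) i0) _ _
        (@Coh.moduleOver K _ X₁ ⟨q⟩ _ i0) = r) :
    (∀ i, i ≠ i0 → IsZero ((Coh.Rpush f i).obj N)) ∧
      FlatMod.IsFinLocFreeOfRank r ((Coh.Rpush f i0).obj N) := by
  have h1 : ∀ (y : Y) (i : ℕ), i ≠ i0 → CohIII.fiberRank f N i y = 0 := by
    intro y i hi
    obtain ⟨K, _, t, X₁, j, q, hy, H, h2, -⟩ := h y
    let _ : X₁.Over (Spec (CommRingCat.of K)) := ⟨q⟩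
    have := h2 i hi
    exact (fiberRank_eq f hN.1 H hy i).trans Module.finrank_zero_of_subsingleton
  have h2 : ∀ y : Y, CohIII.fiberRank f N i0 y = r := by
    intro y
    obtain ⟨K, _, t, X₁, j, q, hy, H, -, h3⟩ := h y
    rw [fiberRank_eq f hN.1 H hy i0, h3]
  refine ⟨fun i hi => K524.FinSupp.isZero_Rpush_of_fiberRank f N hN hfl i fun y => h1 y i hi, fun y => ?_⟩
  obtain ⟨-, h4⟩ := S2389.result f N hN hfl i0 fun y i hi => subsingleton_fiberH f hN y i (h1 y i hi)
  obtain ⟨U, hU, e⟩ := h4 y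
  rw [h2] at e
  exact ⟨U, hU, e⟩

end General

section Main

variable {k : Type u} [Field k] {X Y : Scheme.{u}} [X.Over (Spec (CommRingCat.of k))]
  [Y.Over (Spec (CommRingCat.of k))] [IsIntegral X] [IsProper (X ↘ Spec (CommRingCat.of k))]
  [GeometricallyIntegral (X ↘ Spec (CommRingCat.of k))] [PreconnectedSpace Y] [IsLocallyNoetherian Y]
  [LocallyOfFiniteType (Y ↘ Spec (CommRingCat.of k))]
  [HasInjectiveResolutions (pullback (X ↘ Spec (CommRingCat.of k)) (Y ↘ Spec (CommRingCat.of k))).Modules]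
  (g : G1 k X) {P : (pullback (X ↘ Spec (CommRingCat.of k)) (Y ↘ Spec (CommRingCat.of k))).Modules}
  (hP : PicF.IsInvertible P) (σ : Spec (CommRingCat.of k) ⟶ Y) (hσ : σ ≫ (Y ↘ Spec (CommRingCat.of k)) = 𝟙 _)
  (eσ : (Scheme.Modules.pullback (js (X := X) σ hσ)).obj P ≅ Coh.structureModule X)

/-- The kernel twisted by a module on the first factor. -/
noncomputable abbrev tw (P : (pullback (X ↘ Spec (CommRingCat.of k)) (Y ↘ Spec (CommRingCat.of k))).Modules)
    (M : X.Modules) : (pullback (X ↘ Spec (CommRingCat.of k)) (Y ↘ Spec (CommRingCat.of k))).Modules :=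
  CohB1.tensorMod ((Scheme.Modules.pullback (pullback.fst (X ↘ Spec (CommRingCat.of k))
    (Y ↘ Spec (CommRingCat.of k)))).obj M) P

omit [IsIntegral X] [IsProper (X ↘ Spec (CommRingCat.of k))] [GeometricallyIntegral (X ↘ Spec (CommRingCat.of k))]
  [PreconnectedSpace Y] [IsLocallyNoetherian Y] [LocallyOfFiniteType (Y ↘ Spec (CommRingCat.of k))]
  [HasInjectiveResolutions (pullback (X ↘ Spec (CommRingCat.of k)) (Y ↘ Spec (CommRingCat.of k))).Modules] in
include hP in
theorem rank_tw {M : X.Modules} {n : ℕ} (hM : FlatMod.IsFinLocFreeOfRank n M) :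
    FlatMod.IsFinLocFreeOfRank n (tw P M) := by
  have h := Krr.H478.Cosection.isFinLocFreeOfRank_tensorMod
    (PerfB.FibreConc.isFinLocFreeOfRank_pullback (pullback.fst (X ↘ Spec (CommRingCat.of k))
      (Y ↘ Spec (CommRingCat.of k))) hM) (rank_one_iff.mpr hP)
  rwa [mul_one] at h

omit [LocallyOfFiniteType (Y ↘ Spec (CommRingCat.of k))] in
include g hP eσ in
theorem neg {M : X.Modules} (hM : FlatMod.IsFinLocFree M) (hs : SS k M) (hd : dg k M < 0) :
    (∀ i, i ≠ 1 → IsZero ((Coh.Rpush (pullback.snd (X ↘ Spec (CommRingCat.of k))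
      (Y ↘ Spec (CommRingCat.of k))) i).obj (tw P M))) ∧
    FlatMod.IsFinLocFreeOfRank (-dg k M).toNat ((Coh.Rpush (pullback.snd (X ↘ Spec (CommRingCat.of k))
      (Y ↘ Spec (CommRingCat.of k))) 1).obj (tw P M)) := by
  have hr := rank_tw hP (isFinLocFreeOfRank_rk hM)
  have hv := isFinLocFree_of_rank hr
  have := g.smooth
  refine main _ (coh_of_vb hv) (Sga2lef.H298.VanX0Core.isFlatOver_of_isFinLocFree _ hv) 1 _ fun y => ?_
  obtain ⟨φ, hφ⟩ : ∃ φ, Y.fromSpecResidueField y ≫ (Y ↘ Spec (CommRingCat.of k)) = Spec.map φ :=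
    ⟨_, (Spec.map_preimage _).symm⟩
  let _ : Algebra k (Y.residueField y) := φ.hom.toAlgebra
  have ht : Y.fromSpecResidueField y ≫ (Y ↘ Spec (CommRingCat.of k)) =
    Spec.map (CommRingCat.ofHom (algebraMap k (Y.residueField y))) := hφ
  obtain ⟨h1, h2⟩ := fib_neg g hP σ hσ eσ (Y.residueField y) (Y.fromSpecResidueField y) ht hM hs hd
  refine ⟨Y.residueField y, inferInstance, Y.fromSpecResidueField y, Curv2.bc k X (Y.residueField y),
    jt (X := X) (Y.residueField y) (Y.fromSpecResidueField y) ht, Curv2.bcSnd k X (Y.residueField y),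
    by rw [Scheme.range_fromSpecResidueField]; exact rfl, isPullback_jt (X := X) _ _ _, h1, ?_⟩
  have h3 : ((-dg k M).toNat : ℤ) = - dg k M := Int.toNat_of_nonneg (by omega)
  rw [← h3] at h2
  exact_mod_cast h2

omit [LocallyOfFiniteType (Y ↘ Spec (CommRingCat.of k))] in
include g hP eσ in
theorem pos {M : X.Modules} (hM : FlatMod.IsFinLocFree M) (hs : SS k M) (hd : 0 < dg k M) :
    (∀ i, i ≠ 0 → IsZero ((Coh.Rpush (pullback.snd (X ↘ Spec (CommRingCat.of k))
      (Y ↘ Spec (CommRingCat.of k))) i).obj (tw P M))) ∧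
    FlatMod.IsFinLocFreeOfRank (dg k M).toNat ((Coh.Rpush (pullback.snd (X ↘ Spec (CommRingCat.of k))
      (Y ↘ Spec (CommRingCat.of k))) 0).obj (tw P M)) := by
  have hr := rank_tw hP (isFinLocFreeOfRank_rk hM)
  have hv := isFinLocFree_of_rank hr
  have := g.smooth
  refine main _ (coh_of_vb hv) (Sga2lef.H298.VanX0Core.isFlatOver_of_isFinLocFree _ hv) 0 _ fun y => ?_
  obtain ⟨φ, hφ⟩ : ∃ φ, Y.fromSpecResidueField y ≫ (Y ↘ Spec (CommRingCat.of k)) = Spec.map φ :=
    ⟨_, (Spec.map_preimage _).symm⟩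
  let _ : Algebra k (Y.residueField y) := φ.hom.toAlgebra
  have ht : Y.fromSpecResidueField y ≫ (Y ↘ Spec (CommRingCat.of k)) =
    Spec.map (CommRingCat.ofHom (algebraMap k (Y.residueField y))) := hφ
  obtain ⟨h1, h2⟩ := fib_pos g hP σ hσ eσ (Y.residueField y) (Y.fromSpecResidueField y) ht hM hs hd
  refine ⟨Y.residueField y, inferInstance, Y.fromSpecResidueField y, Curv2.bc k X (Y.residueField y),
    jt (X := X) (Y.residueField y) (Y.fromSpecResidueField y) ht, Curv2.bcSnd k X (Y.residueField y),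
    by rw [Scheme.range_fromSpecResidueField]; exact rfl, isPullback_jt (X := X) _ _ _, h1, ?_⟩
  have h3 : ((dg k M).toNat : ℤ) = dg k M := Int.toNat_of_nonneg (by omega)
  rw [← h3] at h2
  exact_mod_cast h2

end Main

end K985.Push
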