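import Groth.Agent.ShStab.K846.Ascent2
import Groth.Agent.ShStab.K846.Facts
import Groth.Agent.VBCurve.K705.Gen1
import Groth.Agent.VBCurve.K708.PtTwist
import Groth.Agent.CurvesB.VABaseChange
import Groth.Agent.Etcore.DimBaseChange
import Groth.Agent.S1530
import Groth.Agent.PerfB.FibreConc

/-!
# Extension of the base field on curves of genus one (helper985)

For `X` smooth proper of dimension one, geometrically integral of genus one over `k`, and `K/k` any extension:
`X_K` has genus one, degrees and ranks are preserved, and slope-semistability ascends (`ss_bc`).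
-/

set_option autoImplicit false
universe u
open CategoryTheory CategoryTheory.Limits AlgebraicGeometry Polynomial

namespace K985.SSBc

attribute [local instance] Abelian.hasFiniteBiproducts

open Groth.Agent Groth.Agent.VarietyA.DegRank K707.Base K707.Deg K707.Slope K707.Semi K705.Gen1

section bc

variable {k : Type u} [Field k] {X : Scheme.{u}} [X.Over (Spec (CommRingCat.of k))]
  [IsProper (X ↘ Spec (CommRingCat.of k))] [GeometricallyIntegral (X ↘ Spec (CommRingCat.of k))]
  (K : Type u) [Field K] [Algebra k K]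

theorem isIntegral_bc : IsIntegral (Curv2.bc k X K) :=
  CurvesB.VABaseChange.isIntegral (K846.Ascent.isPullback_bc k X K)

/-- `X_K` has genus one. -/
theorem g1_bc [IsIntegral X] (g : G1 k X) : G1 K (Curv2.bc k X K) := by
  have hpb := K846.Ascent.isPullback_bc k X K
  have hs := g.smooth
  refine ⟨?_, MorphismProperty.of_isPullback (P := @Smooth) hpb hs, ?_, ?_⟩
  · rw [Etcore.DimBaseChange.topologicalKrullDim_eq (Field.toIsField k) (Field.toIsField K) _ _ _ _ hpb]
    exact g.dim
  · rw [CurvesB.VABaseChange.genus_eq hpb]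
    exact g.genus
  · rw [CurvesB.VABaseChange.finrank_structure_eq hpb]
    exact g.h0

theorem rank_bc {n : ℕ} {M : X.Modules} (hM : FlatMod.IsFinLocFreeOfRank n M) :
    FlatMod.IsFinLocFreeOfRank n ((Scheme.Modules.pullback (Curv2.bcFst k X K)).obj M) :=
  PerfB.FibreConc.isFinLocFreeOfRank_pullback _ hM

/-- Ranks and degrees are preserved. -/
theorem numbers_bc [IsIntegral X] {M : X.Modules} (hM : FlatMod.IsFinLocFree M) :
    letI := isIntegral_bc (k := k) (X := X) K
    FlatMod.IsFinLocFree ((Scheme.Modules.pullback (Curv2.bcFst k X K)).obj M) ∧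
      rk ((Scheme.Modules.pullback (Curv2.bcFst k X K)).obj M) = rk M ∧
      dg K ((Scheme.Modules.pullback (Curv2.bcFst k X K)).obj M) = dg k M := by
  have := isIntegral_bc (k := k) (X := X) K
  have h1 := isFinLocFreeOfRank_rk hM
  have h2 := rank_bc (k := k) K h1
  refine ⟨isFinLocFree_of_rank h2, rk_of_rank h2, ?_⟩
  rw [dg_of_rank K h2, dg_of_rank k h1]
  exact CurvesB.VABaseChange.deg_eq (K846.Ascent.isPullback_bc k X K) M (coh_of_vb hM).1 _

end bc

section hp

variable {k : Type u} [Field k] {X : Scheme.{u}} [X.Over (Spec (CommRingCat.of k))]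
  [IsIntegral X] [IsProper (X ↘ Spec (CommRingCat.of k))]

/-- Values of the Hilbert polynomial. -/
theorem hp_eval (g : G1 k X) {L : X.Modules} (hL : CohB1.IsAmple L) {M : X.Modules} (hM : Coh.IsCoh M)
    (m : ℕ) : (K846.Gies.hp k L M).eval (m : ℚ) = ((dg k M + rk M * (m * dg k L) : ℤ) : ℚ) := by
  have h1 := K846.Gies.isHilbPoly_hp (K846.Facts.hilbFacts k hL) hM m
  obtain ⟨h2, h3⟩ := K708.PtTwist.inv_pow g.crv hL.1 m
  rw [← h1, ShStab.twist, g.euler, K707.TensL.dg_tensor k g.dim (K707.TensL.rank_one_iff.mpr h2) hM, h3]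
  push_cast
  ring

end hp

section main

variable {k : Type u} [Field k] {X : Scheme.{u}} [X.Over (Spec (CommRingCat.of k))]
  [IsIntegral X] [IsProper (X ↘ Spec (CommRingCat.of k))] [GeometricallyIntegral (X ↘ Spec (CommRingCat.of k))]
  (K : Type u) [Field K] [Algebra k K]

/-- A coherent submodule of `E_K` gives a submodule of a power of `E` with proportional rank and degree. -/
theorem exists_sub (g : G1 k X) {E : X.Modules} (hE : FlatMod.IsFinLocFree E) {F : (Curv2.bc k X K).Modules}
    (hF : Coh.IsCoh F) (ι : F ⟶ (Scheme.Modules.pullback (Curv2.bcFst k X K)).obj E) [Mono ι] :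
    letI := isIntegral_bc (k := k) (X := X) K
    ∃ (n : ℕ) (_ : 0 < n) (G : X.Modules) (κ : G ⟶ ⨁ fun _ : Fin n => E), Mono κ ∧ Coh.IsCoh G ∧
      (rk G : ℤ) = n * rk F ∧ dg k G = n * dg K F := by
  have := isIntegral_bc (k := k) (X := X) K
  obtain ⟨L, hL, hpos⟩ := K708.PtTwist.exists_inv_pos g.crv
  have hamp : CohB1.IsAmple L := by
    rw [S1530.result k X g.dim L hL, ← dg_of_rank k (K707.TensL.rank_one_iff.mpr hL)]
    exact hpos
  obtain ⟨n, hn, G, κ, hκ, hG, h⟩ := K846.Ascent2.exists_sub_pow
    (fun k _ X _ _ L hL => K846.Facts.hilbFacts k hL) (k := k) hamp K (coh_of_vb hE) hF ι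
  have : IsAffineHom (Curv2.bcFst k X K) :=
    MorphismProperty.of_isPullback (K846.Ascent.isPullback_bc k X K).flip inferInstance
  have hamp' := K846.Ascent.isAmple_pullback (Curv2.bcFst k X K) hamp
  have gK := g1_bc K g
  have e1 : ∀ m : ℕ, (dg k G + rk G * (m * dg k L) : ℤ) = n * (dg K F + rk F * (m * dg k L)) := by
    intro m
    have h1 := hp_eval g hamp hG m
    have h2 := hp_eval gK hamp' hF m
    rw [h, Polynomial.eval_smul, h2, smul_eq_mul,
      (numbers_bc (k := k) K (K707.TensL.vb_of_inv hL)).2.2] at h1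
    exact_mod_cast h1.symm
  have e2 := e1 0
  have e3 := e1 1
  simp only [Nat.cast_zero, Nat.cast_one, zero_mul, mul_zero, add_zero, one_mul] at e2 e3
  refine ⟨n, hn, G, κ, hκ, hG, ?_, e2⟩
  have e4 : (rk G : ℤ) * dg k L = (n * rk F) * dg k L := by
    rw [e2] at e3
    linarith
  exact mul_right_cancel₀ hpos.ne' e4

/-- **Slope-semistability ascends along every extension of the base field** (genus one). -/
theorem ss_bc (g : G1 k X) {E : X.Modules} (hE : FlatMod.IsFinLocFree E) (h : SS k E) :
    letI := isIntegral_bc (k := k) (X := X) K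
    SS K ((Scheme.Modules.pullback (Curv2.bcFst k X K)).obj E) := by
  have := isIntegral_bc (k := k) (X := X) K
  intro F i hi hF
  obtain ⟨n, hn, G, κ, hκ, hG, e1, e2⟩ := exists_sub K g hE (coh_of_vb hF) i
  have := K846.Ascent.isLocallyNoetherian_of_proper k X
  have C := g.crv
  have hQ : dg k G * rk E ≤ dg k E * rk G := by
    refine K846.Ascent2.of_sub_pow (fun G => dg k G * rk E ≤ dg k E * rk G) ?_ ?_ ?_ (coh_of_vb hE) ?_ hG κ
    · intro Z _ hZ
      rw [rk_of_isZero hZ, dg_of_isZero hZ]
      simp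
    · intro A B e hA
      rw [← rk_iso e, ← dg_iso k e]
      exact hA
    · intro S hS h₁ h₂ h₃ hA hB
      rw [rk_add' k S hS h₂, dg_add k S hS h₁ h₂ h₃]
      push_cast
      linarith
    · intro F' j _ hF'
      exact h F' j inferInstance (vb_of_mono C j hF' hE)
  obtain ⟨-, e3, e4⟩ := numbers_bc (k := k) K hE
  rw [e3, e4]
  rw [e1, e2] at hQ
  have hn' : (0 : ℤ) < n := by exact_mod_cast hn
  have h5 : (n : ℤ) * (dg K F * rk E) ≤ n * (dg k E * rk F) := by linarith
  exact le_of_mul_le_mul_left h5 hn'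

end main

end K985.SSBc
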